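import Groth.Agent.Et18.ModEps.Forget
import Groth.Agent.EtCmp.Derived

/-!
# `ε⁻¹` of sheaves of modules: exact, fully faithful, image stable under extensions
-/

universe u

open CategoryTheory CategoryTheory.Limits AlgebraicGeometry Opposite

set_option backward.isDefEq.respectTransparency.types false
set_option backward.isDefEq.respectTransparency false
set_option synthInstance.maxHeartbeats 400000
set_option maxHeartbeats 1000000

namespace Groth.Agent.Et18.ModEps

variable (Λ : Type (u + 1)) [CommRing Λ] (X : Scheme.{u})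

instance forgetToAb_preservesFiniteLimits : PreservesFiniteLimits (EtModD.forgetToAb Λ X) := by
  haveI : PreservesFiniteLimits (EtModD.forgetToAb Λ X ⋙ sheafToPresheaf _ _) :=
    preservesFiniteLimits_of_natIso (Iso.refl
      (sheafToPresheaf X.smallEtaleTopology (ModuleCat.{u + 1} Λ) ⋙
        (Functor.whiskeringRight _ _ _).obj (forget₂ (ModuleCat.{u + 1} Λ) AddCommGrpCat.{u + 1})))
  exact preservesFiniteLimits_of_reflects_of_preserves _ (sheafToPresheaf _ _)

instance forgetP_preservesFiniteLimits : PreservesFiniteLimits (forgetP (X := X) Λ) := by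
  haveI : PreservesFiniteLimits (forgetP (X := X) Λ ⋙ sheafToPresheaf _ _) :=
    preservesFiniteLimits_of_natIso (Iso.refl
      (sheafToPresheaf (Scheme.ProEt.topology X) (ModuleCat.{u + 1} Λ) ⋙
        (Functor.whiskeringRight _ _ _).obj (forget₂ (ModuleCat.{u + 1} Λ) AddCommGrpCat.{u + 1})))
  exact preservesFiniteLimits_of_reflects_of_preserves _ (sheafToPresheaf _ _)

instance forgetToAb_reflectsIsomorphisms : (EtModD.forgetToAb Λ X).ReflectsIsomorphisms := inferInstance

instance forgetP_reflectsIsomorphisms : (forgetP (X := X) Λ).ReflectsIsomorphisms := inferInstance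

variable [ProEtS.EpsCont X]

instance preservesFiniteLimits_epsPullMod : PreservesFiniteLimits (EtModW.epsPullMod Λ X) := by
  haveI : PreservesFiniteLimits (EtModW.epsPullMod Λ X ⋙ forgetP Λ) :=
    preservesFiniteLimits_of_natIso (asIso (pullForget (X := X) Λ))
  exact preservesFiniteLimits_of_reflects_of_preserves _ (forgetP Λ)

instance preservesFiniteColimits_epsPullMod : PreservesFiniteColimits (EtModW.epsPullMod Λ X) := by
  haveI := (epsAdjMod (X := X) Λ).leftAdjoint_preservesColimits
  infer_instance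

instance additive_epsPullMod : (EtModW.epsPullMod Λ X).Additive :=
  Functor.additive_of_preserves_binary_products _

instance isIso_unit_epsMod : IsIso (epsAdjMod (X := X) Λ).unit := by
  haveI : ∀ E, IsIso ((epsAdjMod (X := X) Λ).unit.app E) := fun E => by
    haveI : IsIso ((EtModD.forgetToAb Λ X).map ((epsAdjMod (X := X) Λ).unit.app E)) := by
      rw [← unit_pullForget]
      infer_instance
    exact isIso_of_reflects_iso _ (EtModD.forgetToAb Λ X)
  exact NatIso.isIso_of_isIso_app _

/-- `ε⁻¹` is fully faithful. -/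
noncomputable def fullyFaithful_epsPullMod : (EtModW.epsPullMod Λ X).FullyFaithful :=
  (epsAdjMod Λ).fullyFaithfulLOfIsIsoUnit

instance full_epsPullMod : (EtModW.epsPullMod Λ X).Full := (fullyFaithful_epsPullMod Λ X).full

instance faithful_epsPullMod : (EtModW.epsPullMod Λ X).Faithful := (fullyFaithful_epsPullMod Λ X).faithful

variable {Λ X}

/-- `ε_*` of sheaves of modules. -/
noncomputable abbrev pushMod : EtModW.ModP Λ X ⥤ EtModW.Mod Λ X :=
  (ProEtS.eps X).sheafPushforwardContinuous (ModuleCat.{u + 1} Λ) X.smallEtaleTopology (Scheme.ProEt.topology X)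

/-- Along a sequence starting in the image of `ε⁻¹`, direct image is exact. -/
theorem shortExact_pushMod {T : ShortComplex (EtModW.ModP Λ X)} (hT : T.ShortExact) (A : EtModW.Mod Λ X)
    (e : (EtModW.epsPullMod Λ X).obj A ≅ T.X₁) : (T.map (pushMod (Λ := Λ))).ShortExact := by
  haveI := hT.mono_f
  haveI := hT.epi_g
  haveI : PreservesLimitsOfSize.{0, 0} (pushMod (Λ := Λ) (X := X)) := (epsAdjMod Λ).rightAdjoint_preservesLimits
  haveI : PreservesFiniteLimits (pushMod (Λ := Λ) (X := X)) := PreservesLimitsOfSize.preservesFiniteLimits _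
  haveI : Epi ((forgetP Λ).map T.g) := by
    haveI : Sheaf.IsLocallySurjective T.g := (Sheaf.isLocallySurjective_iff_epi' _ T.g).mpr hT.epi_g
    haveI : Sheaf.IsLocallySurjective ((forgetP Λ).map T.g) := ⟨fun {U} s =>
      Presheaf.imageSieve_mem (Scheme.ProEt.topology X) T.g.hom s⟩
    exact Sheaf.epi_of_isLocallySurjective ((forgetP Λ).map T.g)
  have hF : (T.map (forgetP Λ)).ShortExact :=
    { exact := hT.exact.map_of_mono_of_preservesKernel (forgetP Λ) hT.mono_f inferInstance
      mono_f := inferInstanceAs (Mono ((forgetP Λ).map T.f))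
      epi_g := inferInstanceAs (Epi ((forgetP Λ).map T.g)) }
  have hr : IsZero (((ProEtS.epsPush X).rightDerived 1).obj (T.map (forgetP Λ)).X₁) :=
    (EtCmp.isZero_rightDerived_pull ((EtModD.forgetToAb Λ X).obj A) 0).of_iso
      (((ProEtS.epsPush X).rightDerived 1).mapIso
        ((asIso (pullForget (X := X) Λ)).app A ≪≫ (forgetP Λ).mapIso e).symm)
  haveI hep : Epi ((ProEtS.epsPush X).map ((forgetP Λ).map T.g)) := by
    let _ := HasDerivedCategory.standard (ProEtS.AbP X)
    exact Groth.Agent.SpecSeq.epi_map_of_isZero_rightDerived_one hF hr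
  haveI : Epi ((EtModD.forgetToAb Λ X).map ((pushMod (Λ := Λ)).map T.g)) := hep
  haveI : Epi ((pushMod (Λ := Λ)).map T.g) :=
    Functor.epi_of_epi_map (F := EtModD.forgetToAb Λ X) ‹_›
  exact
    { exact := hT.exact.map_of_mono_of_preservesKernel _ hT.mono_f inferInstance
      mono_f := inferInstanceAs (Mono ((pushMod (Λ := Λ)).map T.f))
      epi_g := inferInstanceAs (Epi ((pushMod (Λ := Λ)).map T.g)) }

/-- Extensions of images of `ε⁻¹` are images. -/
theorem exists_iso_of_extension {T : ShortComplex (EtModW.ModP Λ X)} (hT : T.ShortExact)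
    {A₁ A₃ : EtModW.Mod Λ X} (e₁ : (EtModW.epsPullMod Λ X).obj A₁ ≅ T.X₁)
    (e₃ : (EtModW.epsPullMod Λ X).obj A₃ ≅ T.X₃) :
    ∃ S : ShortComplex (EtModW.Mod Λ X), S.ShortExact ∧ Nonempty (A₁ ≅ S.X₁) ∧ Nonempty (A₃ ≅ S.X₃) ∧
      Nonempty ((EtModW.epsPullMod Λ X).obj S.X₂ ≅ T.X₂) := by
  let adj := epsAdjMod (X := X) Λ
  have hT' := shortExact_pushMod hT A₁ e₁
  refine ⟨_, hT', ⟨asIso (adj.unit.app A₁) ≪≫ (pushMod (Λ := Λ)).mapIso e₁⟩,
    ⟨asIso (adj.unit.app A₃) ≪≫ (pushMod (Λ := Λ)).mapIso e₃⟩, ?_⟩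
  let T' := (T.map (pushMod (Λ := Λ))).map (EtModW.epsPullMod Λ X)
  let φ : T' ⟶ T :=
    { τ₁ := adj.counit.app _
      τ₂ := adj.counit.app _
      τ₃ := adj.counit.app _
      comm₁₂ := (adj.counit.naturality T.f).symm
      comm₂₃ := (adj.counit.naturality T.g).symm }
  haveI : IsIso φ.τ₁ := adj.isIso_counit_app_of_iso e₁.symm
  haveI : IsIso φ.τ₃ := adj.isIso_counit_app_of_iso e₃.symm
  have h2 : IsIso φ.τ₂ := ShortComplex.isIso₂_of_shortExact_of_isIso₁₃ φ (hT'.map_of_exact _) hT
  exact ⟨@asIso _ _ _ _ φ.τ₂ h2⟩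

end Groth.Agent.Et18.ModEps
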