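import Groth.Agent.Et18.ModEps.Basic
import Groth.Agent.Et18.Mod.Linear
import Groth.Agent.AdicRing.System
import Groth.Agent.ARLib.AdicCat
import Groth.Agent.ProEtWC.Cover
import Groth.Agent.S14017

/-!
# Limits of adic systems of pro-étale sheaves of modules
-/

universe u

open CategoryTheory CategoryTheory.Limits AlgebraicGeometry Opposite ARSys

set_option backward.isDefEq.respectTransparency.types false
set_option backward.isDefEq.respectTransparency false
set_option synthInstance.maxHeartbeats 400000
set_option maxHeartbeats 1000000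

namespace Groth.Agent.Et18.ModEps

variable {Λ : Type (u + 1)} [CommRing Λ] {X : Scheme.{u}}

/-- Sections over an object of the site. -/
noncomputable abbrev secP (U : X.ProEt) : EtModW.ModP Λ X ⥤ ModuleCat.{u + 1} Λ :=
  (sheafSections (Scheme.ProEt.topology X) (ModuleCat.{u + 1} Λ)).obj (op U)

instance secP_preservesLimitsOfSize (U : X.ProEt) : PreservesLimitsOfSize.{0, 0} (secP (Λ := Λ) U) :=
  inferInstanceAs (PreservesLimitsOfSize.{0, 0} (sheafToPresheaf (Scheme.ProEt.topology X) _ ⋙
    (CategoryTheory.evaluation _ _).obj (op U)))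

instance secP_preservesFiniteLimits (U : X.ProEt) : PreservesFiniteLimits (secP (Λ := Λ) U) :=
  PreservesLimitsOfSize.preservesFiniteLimits _

instance secP_additive (U : X.ProEt) : (secP (Λ := Λ) U).Additive :=
  Functor.additive_of_preserves_binary_products _

lemma secP_map_smul (U : X.ProEt) {F G : EtModW.ModP Λ X} (φ : F ⟶ G) (a : Λ) :
    (secP U).map (a • φ) = a • (secP U).map φ := rfl

/-- Affine weakly contractible objects. -/
def IsAWC (U : X.ProEt) : Prop := IsAffine U.left ∧ EtPBC.IsWContractible Γ(U.left, ⊤)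

lemma IsAWC.isWC {U : X.ProEt} (h : IsAWC U) : ProEtS.IsWC U :=
  haveI := h.1
  (ProEtWC.wContractible_iff_isWC U).mp h.2

/-- Epimorphisms are surjective on sections over weakly contractible objects. -/
theorem surjective_of_epi {F G : EtModW.ModP Λ X} (f : F ⟶ G) [Epi f] {U : X.ProEt} (hU : IsAWC U) :
    Function.Surjective ((secP U).map f).hom := by
  let J := Scheme.ProEt.topology X
  let f' := (sheafCompose J (CategoryTheory.forget (ModuleCat.{u + 1} Λ))).map f
  have h1 : Sheaf.IsLocallySurjective f := (Sheaf.isLocallySurjective_iff_epi' _ f).2 inferInstance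
  haveI : Sheaf.IsLocallySurjective f' := (Presheaf.isLocallySurjective_iff_whisker_forget J f.hom).1 h1
  haveI : Epi f' := inferInstance
  exact hU.isWC _ _ f' inferInstance

/-- Morphisms agreeing on all affine weakly contractible objects agree. -/
theorem hom_ext_awc {F G : EtModW.ModP Λ X} {f g : F ⟶ G}
    (h : ∀ U : X.ProEt, IsAWC U → ∀ s : (secP U).obj F, ((secP U).map f).hom s = ((secP U).map g).hom s) :
    f = g := by
  refine Sheaf.hom_ext (NatTrans.ext (funext fun W => ?_))
  refine ModuleCat.hom_ext (LinearMap.ext fun s => ?_)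
  obtain ⟨ι, V, c, hcov, hV⟩ := ProEtWC.exists_cover_by_affine_wContractible W.unop
  refine Presheaf.IsSheaf.isSheafFor (P := G.obj ⋙ CategoryTheory.forget (ModuleCat.{u + 1} Λ))
    (J := Scheme.ProEt.topology X) ((Presheaf.isSheaf_iff_isSheaf_forget _ _ _).mp G.property) _ hcov
    |>.isSeparatedFor.ext ?_
  rintro T e ⟨_, d, _, ⟨i⟩, rfl⟩
  show G.obj.map (d ≫ c i).op _ = G.obj.map (d ≫ c i).op _
  rw [op_comp, Functor.map_comp]
  refine congrArg (G.obj.map d.op) ?_
  exact ((NatTrans.naturality_apply f.hom (c i).op s).symm.trans (h (V i) (hV i) _)).trans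
    (NatTrans.naturality_apply g.hom (c i).op s)

/-- Surjectivity on affine weakly contractible objects gives epimorphisms. -/
theorem epi_of_awc {F G : EtModW.ModP Λ X} (f : F ⟶ G)
    (h : ∀ U : X.ProEt, IsAWC U → Function.Surjective ((secP U).map f).hom) : Epi f := by
  constructor
  intro T a b hab
  refine hom_ext_awc fun U hU t => ?_
  obtain ⟨s, rfl⟩ := h U hU t
  exact congrArg (fun k => ((secP U).map k).hom s) hab

/-- Bijectivity on affine weakly contractible objects gives isomorphisms. -/
theorem isIso_of_awc {F G : EtModW.ModP Λ X} (f : F ⟶ G)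
    (h : ∀ U : X.ProEt, IsAWC U → Function.Bijective ((secP U).map f).hom) : IsIso f := by
  haveI := epi_of_awc f fun U hU => (h U hU).2
  haveI : Mono f := ⟨fun a b hab => hom_ext_awc fun U hU t =>
    (h U hU).1 (congrArg (fun k => ((secP U).map k).hom t) hab)⟩
  exact isIso_of_mono_of_epi f

/-- The kernel of a quotient map on sections. -/
theorem ker_secP_isQuot {I : Ideal Λ} (hI : I.FG) {F Q : EtModW.ModP Λ X} {p : F ⟶ Q} (hp : IsQuot I p)
    {U : X.ProEt} (hU : IsAWC U) :
    LinearMap.ker ((secP U).map p).hom = I • (⊤ : Submodule Λ ((secP U).obj F)) :=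
  (S14017.result Λ I hI X F Q p hp U hU.isWC).2

/-- Sections of a system with quotient transition maps form an adic system, with the sections of the limit as
limit. -/
noncomputable def adicLimit {I : Ideal Λ} (hI : I.FG) {Y : PS (EtModW.ModP Λ X)} (hY : IsAdic I Y)
    (c : Cone Y) (hc : IsLimit c) {U : X.ProEt} (hU : IsAWC U) :
    AdicRing.AdicLimit I (fun n => (secP (Λ := Λ) U).obj (Y.obj (op n))) ((secP U).obj c.pt) where
  f n := ((secP U).map (tr Y n.le_succ)).hom
  surj_f n := haveI := ARLib.isQuot_epi (hY.2 n (n + 1) n.le_succ); surjective_of_epi _ hU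
  ker_f n := ker_secP_isQuot hI.pow (hY.2 n (n + 1) n.le_succ) hU
  π n := ((secP U).map (c.π.app (op n))).hom
  comp_π n := by
    refine LinearMap.ext fun x => ?_
    exact congrArg (fun k => ((secP U).map k).hom x) (c.w (homOfLE n.le_succ).op)
  joint_inj x hx := by
    refine Concrete.isLimit_ext _ (isLimitOfPreserves (secP U) hc) _ _ fun n => ?_
    exact (hx n.unop).trans (map_zero ((secP (Λ := Λ) U).map (c.π.app n)).hom).symm
  lift y hy := by
    let h := isLimitOfPreserves (secP U) hc
    let d : Cone (Y ⋙ secP U) :=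
      { pt := ModuleCat.of Λ (ULift.{u + 1} Λ)
        π := NatTrans.ofOpSequence
          (fun n => ModuleCat.ofHom ((LinearMap.toSpanSingleton Λ _ (y n)).comp ULift.moduleEquiv.toLinearMap))
          fun n => by
            refine ModuleCat.hom_ext (LinearMap.ext fun r => ?_)
            show r.down • y n = ((secP U).map (tr Y n.le_succ)).hom (r.down • y (n + 1))
            rw [map_smul, hy n] }
    refine ⟨(h.lift d).hom ⟨1⟩, fun n => ?_⟩
    refine (congrArg (fun k => k.hom (⟨1⟩ : ULift.{u + 1} Λ)) (h.fac d (op n))).trans ?_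
    exact one_smul Λ (y n)

/-- The projections of the limit of an adic system are epimorphisms. -/
theorem epi_π {I : Ideal Λ} (hI : I.FG) {Y : PS (EtModW.ModP Λ X)} (hY : IsAdic I Y) (c : Cone Y)
    (hc : IsLimit c) (n : ℕ) : Epi (c.π.app (op n)) :=
  epi_of_awc _ fun _ hU => (adicLimit hI hY c hc hU).surjective_π n

/-- The projections of the limit of an adic system are quotient maps. -/
theorem isQuot_π {I : Ideal Λ} (hI : I.FG) {Y : PS (EtModW.ModP Λ X)} (hY : IsAdic I Y) (c : Cone Y)
    (hc : IsLimit c) (n : ℕ) : IsQuot (I ^ (n + 1)) (c.π.app (op n)) := by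
  haveI := epi_π hI hY c hc n
  refine ARLib.isQuot_of_epi (hY.1 n) fun T φ hφ => hom_ext_awc fun U hU s => ?_
  have hs : ((secP U).map (kernel.ι (c.π.app (op n)))).hom s ∈
      I ^ (n + 1) • (⊤ : Submodule Λ ((secP U).obj c.pt)) := by
    rw [← (adicLimit hI hY c hc hU).ker_of_fg hI n]
    refine LinearMap.mem_ker.mpr ?_
    exact (congrArg (fun k => ((secP U).map k).hom s) (kernel.condition (c.π.app (op n)))).trans rfl
  show ((secP U).map φ).hom (((secP U).map (kernel.ι (c.π.app (op n)))).hom s) = _
  refine (?_ : ((secP U).map φ).hom _ = 0).trans rfl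
  refine LinearMap.mem_ker.mp (Submodule.smul_le.mpr (fun a ha t _ => LinearMap.mem_ker.mpr ?_) hs)
  rw [map_smul]
  exact congrArg (fun k => ((secP U).map k).hom t) (hφ a ha)

variable [ProEtS.EpsCont X]

/-- `ε_*` is linear. -/
instance pushMod_linear : (pushMod (Λ := Λ) (X := X)).Linear Λ where
  map_smul _ _ := rfl

instance pushMod_additive : (pushMod (Λ := Λ) (X := X)).Additive where
  map_add := rfl

/-- `ε⁻¹` is linear. -/
instance epsPullMod_linear : (EtModW.epsPullMod Λ X).Linear Λ where
  map_smul {F G} φ a := by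
    apply ((epsAdjMod (X := X) Λ).homEquiv _ _).injective
    rw [Adjunction.homEquiv_unit, Adjunction.homEquiv_unit, Functor.map_smul (pushMod (Λ := Λ)) a,
      Linear.comp_smul]
    refine Eq.trans ?_ (congrArg (fun t => a • t) ((epsAdjMod (X := X) Λ).unit.naturality φ))
    refine ((epsAdjMod (X := X) Λ).unit.naturality (a • φ)).symm.trans ?_
    exact Linear.smul_comp _ _ _ a φ _

theorem isAdic_epsPull {I : Ideal Λ} (hI : I.FG) {G : PS (EtModW.Mod Λ X)} (hG : IsAdic I G) :
    IsAdic I (G ⋙ EtModW.epsPullMod Λ X) :=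
  Mod.isAdic_map _ hI hG

end Groth.Agent.Et18.ModEps
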