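import Groth.Agent.Et18.ModEps.AdicExact
import Groth.Agent.Et18.Mod.ARApps

/-!
# Kernels, cokernels and chains of adic pro-étale sheaves
-/

universe u

open CategoryTheory CategoryTheory.Limits AlgebraicGeometry Opposite ARSys

set_option backward.isDefEq.respectTransparency.types false
set_option backward.isDefEq.respectTransparency false
set_option synthInstance.maxHeartbeats 400000
set_option maxHeartbeats 1000000

namespace Groth.Agent.Et18.ModEps

variable {Λ : Type (u + 1)} [CommRing Λ] {X : Scheme.{u}} [ProEtS.EpsCont X] {I : Ideal Λ}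

/-- Being adic is invariant under isomorphisms. -/
theorem isAdicP_of_iso (hI : I.FG) {F F' : EtModW.ModP Λ X} (e : F ≅ F') (h : IsAdicP I F) : IsAdicP I F' := by
  obtain ⟨G, hG, hc, ⟨α⟩⟩ := (isAdicP_iff hI F).mp h
  exact (isAdicP_iff hI F').mpr ⟨G, hG, hc, ⟨α ≪≫ e⟩⟩

instance preservesFiniteLimits_limE : PreservesFiniteLimits (limE (Λ := Λ) (X := X)) := by
  let W := (Functor.whiskeringRight ℕᵒᵖ (EtModW.Mod Λ X) (EtModW.ModP Λ X)).obj (EtModW.epsPullMod Λ X)
  haveI : PreservesFiniteLimits W := ⟨fun J _ _ => inferInstance⟩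
  haveI : PreservesLimitsOfSize.{0, 0} (lim : (ℕᵒᵖ ⥤ EtModW.ModP Λ X) ⥤ _) :=
    constLimAdj.rightAdjoint_preservesLimits
  haveI : PreservesFiniteLimits (lim : (ℕᵒᵖ ⥤ EtModW.ModP Λ X) ⥤ _) :=
    PreservesLimitsOfSize.preservesFiniteLimits _
  exact comp_preservesFiniteLimits W lim

instance additive_limE : (limE (Λ := Λ) (X := X)).Additive :=
  Functor.additive_of_preserves_binary_products _

/-- A system adic up to translation has the limit of an adic system. -/
theorem isAdicP_limE [IsNoetherianRing Λ] {K : PS (EtModW.Mod Λ X)} (hK : IsARAdic I K)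
    (hc : ∀ n, EtModW.IsConstructible Λ (K.obj (op n))) : IsAdicP I (limE.obj K) := by
  obtain ⟨-, Y, v, hY, hYc, hv⟩ := Mod.arAdicCons_of_isARAdic hc hK
  haveI : IsIso (limE.map v) := ARLib.isIso_limMap (Mod.isARIso_map (EtModW.epsPullMod Λ X) hv)
  exact (isAdicP_iff (IsNoetherian.noetherian I) _).mpr ⟨Y, hY, hYc, ⟨asIso (limE.map v)⟩⟩

variable [IsNoetherianRing Λ] [IsNoetherian X]

omit [ProEtS.EpsCont X] in
/-- Cokernels of morphisms of adic constructible systems are adic. -/
theorem isAdic_cokernel {G H : PS (EtModW.Mod Λ X)} (hG : IsAdic I G) (hH : IsAdic I H)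
    (hHc : ∀ n, EtModW.IsConstructible Λ (H.obj (op n))) (u : G ⟶ H) : IsAdic I (cokernel u) :=
  (ARLib.isAdicNoeth_cokernel u hG ⟨hH, fun n => Mod.isNoetherianObject_of_isConstructible (hHc n)⟩).1

omit [ProEtS.EpsCont X] in
/-- Images of morphisms of adic constructible systems are adic up to translation. -/
theorem isARAdic_image {G H : PS (EtModW.Mod Λ X)} (hG : IsAdic I G) (hH : IsAdic I H)
    (hGc : ∀ n, EtModW.IsConstructible Λ (G.obj (op n))) (hHc : ∀ n, EtModW.IsConstructible Λ (H.obj (op n)))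
    (u : G ⟶ H) : IsARAdic I (Abelian.image u) :=
  (Mod.isARAdic_kernel_cokernel hH (isAdic_cokernel hG hH hHc u) hHc
    (Mod.isARAdic_kernel_cokernel hG hH hGc hHc u).2.2 (cokernel.π u)).1.1

/-- The limit of the map onto the image is an epimorphism. -/
theorem epi_limE_factorThruImage {G H : PS (EtModW.Mod Λ X)} (hG : IsAdic I G) (hH : IsAdic I H)
    (hGc : ∀ n, EtModW.IsConstructible Λ (G.obj (op n))) (hHc : ∀ n, EtModW.IsConstructible Λ (H.obj (op n)))
    (u : G ⟶ H) : Epi (limE.map (Abelian.factorThruImage u)) := by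
  obtain ⟨-, Y, v, hY, hv⟩ := (Mod.isARAdic_kernel_cokernel hG hH hGc hHc u).1.1
  let T := Abelian.factorThruImage u
  let i : kernel u ≅ kernel T :=
    kernelIsoOfEq (Abelian.image.fac u).symm ≪≫ kernelCompMono T (Abelian.image.ι u)
  have hS : (ShortComplex.mk (kernel.ι T) T (kernel.condition T)).ShortExact :=
    { exact := ShortComplex.exact_kernel T }
  exact epi_limE (IsNoetherian.noetherian I) hS hY (v := v ≫ i.hom)
    (ARLib.isARIso_comp hv (ARLib.isARIso_of_isIso _))

/-- Kernels and cokernels of morphisms of adic sheaves are adic. -/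
theorem isAdicP_kernel_cokernel {F F' : EtModW.ModP Λ X} (hF : IsAdicP I F) (hF' : IsAdicP I F') (w : F ⟶ F') :
    IsAdicP I (kernel w) ∧ IsAdicP I (cokernel w) := by
  have hI : I.FG := IsNoetherian.noetherian I
  obtain ⟨G, hG, hGc, ⟨α⟩⟩ := (isAdicP_iff hI F).mp hF
  obtain ⟨H, hH, hHc, ⟨β⟩⟩ := (isAdicP_iff hI F').mp hF'
  obtain ⟨u, hu⟩ := exists_limE_map hI hG hH.1 (α.hom ≫ w ≫ β.inv)
  have hu' : limE.map u ≫ β.hom = α.hom ≫ w := by
    rw [hu, Category.assoc, Category.assoc, Iso.inv_hom_id, Category.comp_id]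
  obtain ⟨⟨hK, hKc⟩, ⟨-, hCc⟩⟩ := Mod.isARAdic_kernel_cokernel hG hH hGc hHc u
  refine ⟨isAdicP_of_iso hI (PreservesKernel.iso limE u ≪≫ kernel.mapIso (limE.map u) w α β hu')
    (isAdicP_limE hK hKc), ?_⟩
  let S : ShortComplex (PS (EtModW.Mod Λ X)) :=
    ShortComplex.mk (Abelian.image.ι u) (cokernel.π u) (kernel.condition _)
  have hS : S.ShortExact := { exact := ShortComplex.exact_kernel (cokernel.π u) }
  obtain ⟨-, Y, v, hY, hv⟩ := isARAdic_image hG hH hGc hHc u
  haveI : Epi (limE.map S.g) := epi_limE hI hS hY hv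
  haveI := epi_limE_factorThruImage hG hH hGc hHc u
  haveI := hS.mono_f
  haveI : Epi (S.map limE).g := inferInstanceAs (Epi (limE.map S.g))
  let hc := (hS.exact.map_of_mono_of_preservesKernel limE hS.mono_f inferInstance).gIsCokernel
  let e₁ : cokernel (limE.map u) ≅ cokernel (limE.map (Abelian.image.ι u)) :=
    cokernelIsoOfEq (show limE.map u = limE.map (Abelian.factorThruImage u) ≫ limE.map (Abelian.image.ι u) by
      rw [← Functor.map_comp, Abelian.image.fac]) ≪≫ cokernelEpiComp _ _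
  let e₂ : cokernel (limE.map (Abelian.image.ι u)) ≅ limE.obj (cokernel u) :=
    (cokernelIsCokernel (limE.map (Abelian.image.ι u))).coconePointUniqueUpToIso hc
  exact isAdicP_of_iso hI ((e₁ ≪≫ e₂).symm ≪≫ cokernel.mapIso (limE.map u) w α β hu')
    ((isAdicP_iff hI _).mpr ⟨cokernel u, isAdic_cokernel hG hH hHc u, hCc, ⟨Iso.refl _⟩⟩)

/-- Increasing chains of adic subsheaves of an adic sheaf become stationary. -/
theorem chain_stationary {F : EtModW.ModP Λ X} (hF : IsAdicP I F) (Z : ℕ →o Subobject F)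
    (hZ : ∀ k, IsAdicP I (Subobject.underlying.obj (Z k))) : ∃ k₀, ∀ k, k₀ ≤ k → Z k = Z k₀ := by
  have hI : I.FG := IsNoetherian.noetherian I
  obtain ⟨G, hG, hGc, ⟨α⟩⟩ := (isAdicP_iff hI F).mp hF
  choose H hH hHc e using fun k => (isAdicP_iff hI _).mp (hZ k)
  let e' := fun k => (e k).some
  choose u hu using fun k => exists_limE_map hI (hH k) hG.1 ((e' k).hom ≫ (Z k).arrow ≫ α.inv)
  have hle : ∀ {k m}, k ≤ m → ∃ a : H k ⟶ H m, a ≫ u m = u k := fun {k m} h => by
    obtain ⟨a, ha⟩ := exists_limE_map hI (hH k) (hH m).1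
      ((e' k).hom ≫ Subobject.ofLE _ _ (Z.monotone h) ≫ (e' m).inv)
    refine ⟨a, limE_map_injective hI (hH k) ?_⟩
    rw [Functor.map_comp, ha, hu, hu, Category.assoc, Category.assoc, Iso.inv_hom_id_assoc,
      Subobject.ofLE_arrow_assoc]
  let W : ℕ →o Subobject G := ⟨fun k => imageSubobject (u k), fun k m h => by
    obtain ⟨a, ha⟩ := hle h
    show imageSubobject (u k) ≤ imageSubobject (u m)
    rw [← ha]
    exact imageSubobject_comp_le _ _⟩
  have hW : ∀ k, IsStrict ((Subobject.underlying.obj (W k) : PS (EtModW.Mod Λ X))) := fun k => by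
    haveI : Epi (factorThruImageSubobject (u k)) := inferInstance
    exact ARLib.isStrict_of_epi (factorThruImageSubobject (u k)) (ARLib.isStrict_of_isAdic (hH k))
  obtain ⟨k₀, hk₀⟩ := ARLib.strict_chain_stationary
    (X := G) (J := I) ⟨hG, fun n => Mod.isNoetherianObject_of_isConstructible (hGc n)⟩ W hW
  have key : ∀ k, Z k = Subobject.mk (limE.map (W k).arrow ≫ α.hom) := fun k => by
    let T := factorThruImageSubobject (u k)
    have hT : T = Abelian.factorThruImage (u k) ≫
        (imageSubobjectIso (u k) ≪≫ (Abelian.imageIsoImage (u k)).symm).inv := by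
      rw [← cancel_mono (imageSubobject (u k)).arrow]
      simp [T]
    haveI := epi_limE_factorThruImage (hH k) hG (hHc k) hGc (u k)
    haveI : Epi (limE.map T) := by
      rw [hT, Functor.map_comp]
      infer_instance
    have hc : limE.map T ≫ limE.map (W k).arrow = (e' k).hom ≫ (Z k).arrow ≫ α.inv := by
      rw [← Functor.map_comp, ← hu]
      exact congrArg limE.map (imageSubobject_arrow_comp (u k))
    haveI : Mono (limE.map T ≫ limE.map (W k).arrow) := by rw [hc]; infer_instance
    haveI : Mono (limE.map T) := mono_of_mono _ (limE.map (W k).arrow)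
    haveI : IsIso (limE.map T) := isIso_of_mono_of_epi _
    conv_lhs => rw [← Subobject.mk_arrow (Z k)]
    refine Subobject.mk_eq_mk_of_comm _ _ ((e' k).symm ≪≫ asIso (limE.map T)) ?_
    rw [Iso.trans_hom, Iso.symm_hom, asIso_hom, Category.assoc, ← Category.assoc (limE.map T), hc,
      Category.assoc, Category.assoc, Iso.inv_hom_id, Category.comp_id, Iso.inv_hom_id_assoc]
  exact ⟨k₀, fun k hk => by rw [key k, key k₀, hk₀ k hk]⟩

end Groth.Agent.Et18.ModEps
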