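import Groth.Agent.Et18.ModEps.Adic

/-!
# Adic pro-étale sheaves and adic systems of étale sheaves
-/

universe u

open CategoryTheory CategoryTheory.Limits AlgebraicGeometry Opposite ARSys

set_option backward.isDefEq.respectTransparency.types false
set_option backward.isDefEq.respectTransparency false
set_option synthInstance.maxHeartbeats 400000
set_option maxHeartbeats 1000000

namespace Groth.Agent.Et18.ModEps

variable {Λ : Type (u + 1)} [CommRing Λ] {X : Scheme.{u}} [ProEtS.EpsCont X] {I : Ideal Λ}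

/-- A tower of quotient maps has an adic system as target. -/
theorem isAdic_of_quots {F : EtModW.ModP Λ X} {Q : ℕᵒᵖ ⥤ EtModW.ModP Λ X} (p : (Functor.const ℕᵒᵖ).obj F ⟶ Q)
    (hQ : ∀ n : ℕ, IsQuot (I ^ (n + 1)) (p.app (op n))) : IsAdic I Q := by
  refine ⟨fun n => (hQ n).1, fun n m h => ⟨(hQ n).1, fun T φ hφ => ?_⟩⟩
  have e : p.app (op m) ≫ tr Q h = p.app (op n) := ((p.naturality (homOfLE h).op).symm.trans (Category.id_comp _) :)
  haveI := ARLib.isQuot_epi (hQ m)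
  obtain ⟨ψ, hψ, hu⟩ := (hQ n).2 T (p.app (op m) ≫ φ) (ARLib.homKilledBy_comp _ hφ)
  refine ⟨ψ, ?_, fun χ hχ => hu χ ?_⟩
  · refine (cancel_epi (p.app (op m))).mp ?_
    exact ((Category.assoc _ _ _).symm.trans (congrArg (fun t => t ≫ ψ) e)).trans hψ
  · exact (congrArg (fun t => t ≫ χ) e.symm).trans
      ((Category.assoc _ _ _).trans (congrArg (fun t => p.app (op m) ≫ t) hχ))

/-- `ε⁻¹` reflects adic systems. -/
theorem isAdic_of_epsPull {G : PS (EtModW.Mod Λ X)} (h : IsAdic I (G ⋙ EtModW.epsPullMod Λ X)) : IsAdic I G := by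
  let e := EtModW.epsPullMod Λ X
  have hk : ∀ n, KilledBy (I ^ (n + 1)) (G.obj (op n)) := fun n a ha => e.map_injective (by
    rw [e.map_smul, e.map_id, e.map_zero]
    exact h.1 n a ha)
  refine ⟨hk, fun n m hnm => ⟨hk n, fun T φ hφ => ?_⟩⟩
  obtain ⟨ψ, hψ, hu⟩ := (h.2 n m hnm).2 (e.obj T) (e.map φ) fun a ha => by
    exact ((e.map_smul a φ).symm.trans (congrArg e.map (hφ a ha))).trans (e.map_zero _ _)
  refine ⟨e.preimage ψ, e.map_injective ?_, fun χ hχ => ?_⟩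
  · rw [e.map_comp, e.map_preimage]
    exact hψ
  · refine e.map_injective ((hu (e.map χ) ?_).trans (e.map_preimage ψ).symm)
    exact (e.map_comp _ _).symm.trans (congrArg e.map hχ)

/-- The limit functor on inverse systems of étale sheaves. -/
noncomputable abbrev limE : PS (EtModW.Mod Λ X) ⥤ EtModW.ModP Λ X :=
  (Functor.whiskeringRight ℕᵒᵖ (EtModW.Mod Λ X) (EtModW.ModP Λ X)).obj (EtModW.epsPullMod Λ X) ⋙ lim

lemma limE_map_π {G H : PS (EtModW.Mod Λ X)} (g : G ⟶ H) (n : ℕ) :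
    limE.map g ≫ limit.π (H ⋙ EtModW.epsPullMod Λ X) (op n) =
      limit.π (G ⋙ EtModW.epsPullMod Λ X) (op n) ≫ (EtModW.epsPullMod Λ X).map (g.app (op n)) :=
  limMap_π _ _

/-- Morphisms between limits of adic systems come from morphisms of systems. -/
theorem exists_limE_map (hI : I.FG) {G H : PS (EtModW.Mod Λ X)} (hG : IsAdic I G) (hH : TermKilled I H)
    (f : limE.obj G ⟶ limE.obj H) : ∃ g : G ⟶ H, limE.map g = f := by
  let e := EtModW.epsPullMod Λ X
  let pG := fun n => limit.π (G ⋙ e) (op n)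
  have hq : ∀ n, IsQuot (I ^ (n + 1)) (pG n) := fun n =>
    isQuot_π hI (isAdic_epsPull hI hG) (limit.cone _) (limit.isLimit _) n
  let f' := fun n => ARLib.qdesc (hq n) (f ≫ limit.π (H ⋙ e) (op n))
    (ARLib.homKilledBy_of_target (Mod.killedBy_map e (hH n)) _)
  have hf' : ∀ n, pG n ≫ f' n = f ≫ limit.π (H ⋙ e) (op n) := fun n => ARLib.qdesc_fac _ _ _
  refine ⟨ARLib.mkHom (fun n => e.preimage (f' n)) fun n m h => e.map_injective ?_, limit.hom_ext fun ⟨n⟩ => ?_⟩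
  · haveI := ARLib.isQuot_epi (hq m)
    rw [← cancel_epi (pG m), e.map_comp, e.map_comp, e.map_preimage, e.map_preimage, ← Category.assoc, hf',
      ← Category.assoc]
    refine (Category.assoc _ _ _).trans ((congrArg (fun t => f ≫ t) (limit.w (H ⋙ e) (homOfLE h).op)).trans ?_)
    refine (hf' n).symm.trans (congrArg (fun t => t ≫ f' n) ?_)
    exact (limit.w (G ⋙ e) (homOfLE h).op).symm
  · refine (limE_map_π _ n).trans ?_
    refine (congrArg (fun t => pG n ≫ t) (e.map_preimage (f' n))).trans ?_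
    exact hf' n

/-- Morphisms of adic systems with the same limit are equal. -/
theorem limE_map_injective (hI : I.FG) {G H : PS (EtModW.Mod Λ X)} (hG : IsAdic I G) {g g' : G ⟶ H}
    (h : limE.map g = limE.map g') : g = g' := by
  refine NatTrans.ext (funext fun ⟨n⟩ => (EtModW.epsPullMod Λ X).map_injective ?_)
  haveI : Epi (limit.π (G ⋙ EtModW.epsPullMod Λ X) (op n)) :=
    epi_π hI (isAdic_epsPull hI hG) (limit.cone _) (limit.isLimit _) n
  rw [← cancel_epi (limit.π (G ⋙ EtModW.epsPullMod Λ X) (op n)), ← limE_map_π, ← limE_map_π, h]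

variable (I) in
/-- An adic pro-étale sheaf. -/
abbrev IsAdicP (F : EtModW.ModP Λ X) : Prop :=
  ∃ (Q : ℕᵒᵖ ⥤ EtModW.ModP Λ X) (p : (Functor.const ℕᵒᵖ).obj F ⟶ Q),
    (∀ n : ℕ, IsQuot (I ^ (n + 1)) (p.app (op n))) ∧
    (∀ n : ℕ, ∃ E : EtModW.Mod Λ X, EtModW.IsConstructible Λ E ∧
      Nonempty ((EtModW.epsPullMod Λ X).obj E ≅ Q.obj (op n))) ∧
    IsIso (limit.lift Q (Cone.mk F p))

/-- The adic system of an adic pro-étale sheaf. -/
theorem exists_system {Q : ℕᵒᵖ ⥤ EtModW.ModP Λ X}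
    (hc : ∀ n : ℕ, ∃ E : EtModW.Mod Λ X, EtModW.IsConstructible Λ E ∧
      Nonempty ((EtModW.epsPullMod Λ X).obj E ≅ Q.obj (op n))) :
    ∃ G : PS (EtModW.Mod Λ X), (∀ n : ℕ, EtModW.IsConstructible Λ (G.obj (op n))) ∧
      Nonempty (G ⋙ EtModW.epsPullMod Λ X ≅ Q) := by
  choose E hE e using hc
  let e' := fun n => (e n).some
  let ε := EtModW.epsPullMod Λ X
  let G : PS (EtModW.Mod Λ X) := ARLib.mkPS E
    (fun {n m} h => ε.preimage ((e' m).hom ≫ tr Q h ≫ (e' n).inv))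
    (fun n => ε.map_injective (by
      rw [ε.map_preimage, ε.map_id, ARLib.tr_self, Category.id_comp, Iso.hom_inv_id]))
    fun {n m l} h h' => ε.map_injective (by
      rw [ε.map_comp, ε.map_preimage, ε.map_preimage, ε.map_preimage, Category.assoc, Category.assoc,
        Iso.inv_hom_id_assoc, ARLib.tr_comp_assoc])
  refine ⟨G, hE, ⟨NatIso.ofComponents (fun a => e' a.unop) fun {a b} k => ?_⟩⟩
  obtain ⟨m⟩ := a
  obtain ⟨n⟩ := b
  show ε.map (ε.preimage _) ≫ (e' n).hom = (e' m).hom ≫ Q.map k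
  rw [ε.map_preimage, Category.assoc, Category.assoc, Iso.inv_hom_id, Category.comp_id]
  rfl

/-- The adic sheaves are the limits of adic systems of constructible sheaves. -/
theorem isAdicP_iff (hI : I.FG) (F : EtModW.ModP Λ X) :
    IsAdicP I F ↔ ∃ G : PS (EtModW.Mod Λ X), IsAdic I G ∧
      (∀ n : ℕ, EtModW.IsConstructible Λ (G.obj (op n))) ∧ Nonempty (limE.obj G ≅ F) := by
  constructor
  · rintro ⟨Q, p, hQ, hc, hl⟩
    obtain ⟨G, hG, ⟨α⟩⟩ := exists_system hc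
    let p' : (Functor.const ℕᵒᵖ).obj F ⟶ G ⋙ EtModW.epsPullMod Λ X := p ≫ α.inv
    refine ⟨G, isAdic_of_epsPull (isAdic_of_quots p' fun n => ?_), hG,
      ⟨(lim.mapIso α : limit _ ≅ limit Q) ≪≫ (asIso (limit.lift Q (Cone.mk F p))).symm⟩⟩
    refine ⟨ARLib.killedBy_of_epi (α.inv.app (op n)) (hQ n).1, fun T φ hφ => ?_⟩
    obtain ⟨ψ, hψ, hu⟩ := (hQ n).2 T φ hφ
    refine ⟨α.hom.app (op n) ≫ ψ, ?_, fun χ hχ => ?_⟩
    · exact ((Category.assoc _ _ _).trans (congrArg (fun t => p.app (op n) ≫ t) (α.inv_hom_id_app_assoc _ ψ))).trans hψ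
    · rw [← hu (α.inv.app (op n) ≫ χ) ((Category.assoc _ _ _).symm.trans hχ), Iso.hom_inv_id_app_assoc]
  · rintro ⟨G, hG, hc, ⟨e⟩⟩
    let Q := G ⋙ EtModW.epsPullMod Λ X
    let p : (Functor.const ℕᵒᵖ).obj F ⟶ Q := (Functor.const ℕᵒᵖ).map e.inv ≫ (limit.cone Q).π
    refine ⟨Q, p, fun n => ?_, fun n => ⟨_, hc n, ⟨Iso.refl _⟩⟩, ?_⟩
    · have h := isQuot_π hI (isAdic_epsPull hI hG) (limit.cone Q) (limit.isLimit _) n
      refine ⟨h.1, fun T φ hφ => ?_⟩
      obtain ⟨ψ, hψ, hu⟩ := h.2 T (e.hom ≫ φ) (ARLib.homKilledBy_comp _ hφ)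
      refine ⟨ψ, ?_, fun χ hχ => hu χ ?_⟩
      · exact ((Category.assoc _ _ _).trans (congrArg (fun t => e.inv ≫ t) hψ)).trans (e.inv_hom_id_assoc φ)
      · exact ((e.hom_inv_id_assoc _).symm.trans
          (congrArg (fun t => e.hom ≫ t) ((Category.assoc _ _ _).symm.trans hχ)) :)
    · have : limit.lift Q (Cone.mk F p) = e.inv := limit.hom_ext fun n => limit.lift_π _ _
      rw [this]
      infer_instance

end Groth.Agent.Et18.ModEps
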