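import Groth.Agent.Et18.ModEps.AdicEquiv
import Groth.Agent.ARLib.Stab

/-!
# Exactness of limits of pro-étale sheaves along systems adic up to translation
-/

universe u

open CategoryTheory CategoryTheory.Limits AlgebraicGeometry Opposite ARSys

set_option backward.isDefEq.respectTransparency.types false
set_option backward.isDefEq.respectTransparency false
set_option synthInstance.maxHeartbeats 400000
set_option maxHeartbeats 1000000

namespace Groth.Agent.Et18.ModEps

variable {Λ : Type (u + 1)} [CommRing Λ] {X : Scheme.{u}}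

lemma secP_comp_apply {U : X.ProEt} {A B C : EtModW.ModP Λ X} (f : A ⟶ B) (g : B ⟶ C) (x : (secP U).obj A) :
    ((secP U).map (f ≫ g)).hom x = ((secP U).map g).hom (((secP U).map f).hom x) := rfl

/-- A compatible family of sections is a section of the limit. -/
theorem exists_elem {Y : PS (EtModW.ModP Λ X)} {c : Cone Y} (hc : IsLimit c) {U : X.ProEt}
    (y : ∀ n, (secP (Λ := Λ) U).obj (Y.obj (op n)))
    (hy : ∀ n, ((secP U).map (tr Y n.le_succ)).hom (y (n + 1)) = y n) :
    ∃ x : (secP (Λ := Λ) U).obj c.pt, ∀ n, ((secP U).map (c.π.app (op n))).hom x = y n := by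
  let h := isLimitOfPreserves (secP U) hc
  let d : Cone (Y ⋙ secP U) :=
    { pt := ModuleCat.of Λ (ULift.{u + 1} Λ)
      π := NatTrans.ofOpSequence
        (fun n => ModuleCat.ofHom ((LinearMap.toSpanSingleton Λ _ (y n)).comp ULift.moduleEquiv.toLinearMap))
        fun n => by
          refine ModuleCat.hom_ext (LinearMap.ext fun r => ?_)
          show r.down • y n = ((secP U).map (tr Y n.le_succ)).hom (r.down • y (n + 1))
          rw [map_smul, hy n] }
  refine ⟨(h.lift d).hom ⟨1⟩, fun n => ?_⟩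
  refine (congrArg (fun k => k.hom (⟨1⟩ : ULift.{u + 1} Λ)) (h.fac d (op n))).trans ?_
  exact one_smul Λ (y n)

/-- Exactness of sections. -/
theorem exists_preimage {S : ShortComplex (EtModW.ModP Λ X)} (hS : S.ShortExact) {U : X.ProEt}
    (x : (secP (Λ := Λ) U).obj S.X₂) (hx : ((secP U).map S.g).hom x = 0) :
    ∃ a, ((secP U).map S.f).hom a = x := by
  haveI := hS.mono_f
  exact (ShortComplex.moduleCat_exact_iff _).mp
    (hS.exact.map_of_mono_of_preservesKernel (secP U) hS.mono_f inferInstance) x hx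

/-- The limit of a short exact sequence of systems is exact if the first system is, up to translation, a system
with epimorphisms as transition maps. -/
theorem epi_limMap_of_strict {S : ShortComplex (PS (EtModW.ModP Λ X))} (hS : S.ShortExact)
    {Y : PS (EtModW.ModP Λ X)} (hY : IsStrict Y) {v : Y ⟶ S.X₁} (hv : IsARIso v) : Epi (limMap S.g) := by
  obtain ⟨r, ⟨w⟩⟩ := ARLib.isARIso_iff.mp hv
  refine epi_of_awc _ fun U hU c => ?_
  haveI : ∀ n, Epi (S.g.app (op n)) := ARLib.epi_g_app hS
  let s : ∀ {A B : EtModW.ModP Λ X}, (A ⟶ B) → ((secP U).obj A →ₗ[Λ] (secP U).obj B) :=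
    fun k => ((secP U).map k).hom
  have sc : ∀ {A B C : EtModW.ModP Λ X} (f : A ⟶ B) (g : B ⟶ C) (x : (secP U).obj A),
      s g (s f x) = s (f ≫ g) x := fun f g x => rfl
  let cn := fun n => s (limit.π S.X₃ (op n)) c
  have hcn : ∀ {n m : ℕ} (h : n ≤ m), s (tr S.X₃ h) (cn m) = cn n := fun h =>
    (sc _ _ _).trans (congrArg (fun k => s k c) (limit.w S.X₃ (homOfLE h).op))
  choose b hb using fun n => surjective_of_epi (S.g.app (op n)) hU (cn n)
  change ∀ n, s (S.g.app (op n)) (b n) = cn n at hb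
  let d := fun n => s (tr S.X₂ (n + r).le_succ) (b (n + r + 1)) - b (n + r)
  have hd : ∀ n, s (S.g.app (op (n + r))) (d n) = 0 := fun n => by
    rw [map_sub, hb, sc, ← ARLib.tr_nat, ← sc, hb, hcn, sub_self]
  choose a ha using fun n => exists_preimage (ARLib.shortExact_app hS (n + r)) (d n) (hd n)
  change ∀ n, s (S.f.app (op (n + r))) (a n) = d n at ha
  let y := fun n => s (w.inv (le_refl (n + r))) (a n)
  have hy : ∀ n, s (S.f.app (op n)) (s (v.app (op n)) (y n)) = s (tr S.X₂ (Nat.le_add_right n r)) (d n) :=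
    fun n => by
      rw [sc, sc, ← Category.assoc, w.inv_hom, ← ARLib.tr_nat, ← sc, ha]
  choose t ht using fun n => haveI := hY n (n + 1) n.le_succ; surjective_of_epi (tr Y n.le_succ) hU
  let z : ∀ n, (secP (Λ := Λ) U).obj (Y.obj (op n)) := fun n => Nat.rec 0 (fun k zk => t k (zk - y k)) n
  have hz : ∀ n, s (tr Y n.le_succ) (z (n + 1)) = z n - y n := fun n => ht n _
  let e := fun n => s (tr S.X₂ (Nat.le_add_right n r)) (b (n + r)) + s (S.f.app (op n)) (s (v.app (op n)) (z n))
  have he : ∀ n, s (tr S.X₂ n.le_succ) (e (n + 1)) = e n := fun n => by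
    have h1 : s (tr S.X₂ n.le_succ) (s (S.f.app (op (n + 1))) (s (v.app (op (n + 1))) (z (n + 1)))) =
        s (S.f.app (op n)) (s (v.app (op n)) (z n - y n)) := by
      rw [sc, sc, ARLib.tr_nat, ARLib.tr_nat_assoc, ← sc, ← sc, hz]
    have hcast : ∀ (N : ℕ) (_ : N = n + r + 1) (h : n ≤ N), s (tr S.X₂ h) (b N) =
        s (tr S.X₂ (Nat.le_add_right n r)) (d n) + s (tr S.X₂ (Nat.le_add_right n r)) (b (n + r)) := by
      rintro _ rfl h
      rw [← map_add, sub_add_cancel, sc, ARLib.tr_comp]
    rw [map_add, h1, map_sub, map_sub, hy, sc, ARLib.tr_comp,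
      hcast (n + 1 + r) (Nat.add_right_comm n 1 r) _]
    simp only [e]
    abel
  have hge : ∀ n, s (S.g.app (op n)) (e n) = cn n := fun n => by
    have h0 : s (S.g.app (op n)) (s (S.f.app (op n)) (s (v.app (op n)) (z n))) = 0 := by
      rw [sc, ARLib.zero_app]
      exact rfl
    rw [map_add, h0, add_zero, sc, ← ARLib.tr_nat, ← sc, hb, hcn]
  obtain ⟨x, hx⟩ := exists_elem (limit.isLimit S.X₂) e he
  refine ⟨x, Concrete.isLimit_ext _ (isLimitOfPreserves (secP U) (limit.isLimit S.X₃)) _ _ fun n => ?_⟩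
  show s (limit.π S.X₃ n) (s (limMap S.g) x) = s (limit.π S.X₃ n) c
  rw [sc, limMap_π, ← sc]
  exact (congrArg (s (S.g.app n)) (hx n.unop)).trans (hge n.unop)

variable [ProEtS.EpsCont X] {I : Ideal Λ}

/-- Inverse systems and `ε⁻¹`. -/
lemma shortExact_whisker {S : ShortComplex (PS (EtModW.Mod Λ X))} (hS : S.ShortExact) :
    (S.map ((Functor.whiskeringRight ℕᵒᵖ (EtModW.Mod Λ X) (EtModW.ModP Λ X)).obj
      (EtModW.epsPullMod Λ X))).ShortExact := by
  let W := (Functor.whiskeringRight ℕᵒᵖ (EtModW.Mod Λ X) (EtModW.ModP Λ X)).obj (EtModW.epsPullMod Λ X)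
  haveI : W.PreservesZeroMorphisms := inferInstance
  haveI : PreservesFiniteLimits W := ⟨fun J _ _ => inferInstance⟩
  haveI : PreservesFiniteColimits W := ⟨fun J _ _ => inferInstance⟩
  exact hS.map_of_exact W

/-- The limit of `ε⁻¹` of a short exact sequence of systems is exact on the right if the first one is adic up
to translation. -/
theorem epi_limE (hI : I.FG) {S : ShortComplex (PS (EtModW.Mod Λ X))} (hS : S.ShortExact)
    {Y : PS (EtModW.Mod Λ X)} {v : Y ⟶ S.X₁} (hY : IsAdic I Y) (hv : IsARIso v) :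
    Epi (limMap (Functor.whiskerRight S.g (EtModW.epsPullMod Λ X))) :=
  epi_limMap_of_strict (shortExact_whisker hS) (ARLib.isStrict_of_isAdic (isAdic_epsPull hI hY))
    (Mod.isARIso_map (EtModW.epsPullMod Λ X) hv)

end Groth.Agent.Et18.ModEps
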