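import Groth.Agent.Et18.ModEps.AdicAbelian
import Groth.Agent.Et18.Mod.StrataApps
import Mathlib.Algebra.Homology.ShortComplex.SnakeLemma
import Mathlib.RingTheory.AdicCompletion.Basic

/-!
# Extensions of adic pro-étale sheaves for a principal ideal
-/

universe w u

open CategoryTheory CategoryTheory.Limits AlgebraicGeometry Opposite ARSys

set_option backward.isDefEq.respectTransparency.types false
set_option backward.isDefEq.respectTransparency false
set_option synthInstance.maxHeartbeats 400000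
set_option maxHeartbeats 1000000

namespace Groth.Agent.Et18.ModEps

section Algebra

variable {A : Type w} [CommRing A] {a : A} {M M' M'' : Type*} [AddCommGroup M] [Module A M] [AddCommGroup M']
  [Module A M'] [AddCommGroup M''] [Module A M''] (f : M' →ₗ[A] M) (g : M →ₗ[A] M'')

lemma mem_pow_span_singleton {n : ℕ} {x : M} :
    x ∈ Ideal.span {a} ^ n • (⊤ : Submodule A M) ↔ ∃ y, a ^ n • y = x := by
  rw [Ideal.span_singleton_pow, Submodule.ideal_span_singleton_smul]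
  exact ⟨fun ⟨y, _, h⟩ => ⟨y, h⟩, fun ⟨y, h⟩ => ⟨y, trivial, h⟩⟩

/-- An extension of complete modules is complete if the `a`-power torsion of the quotient is bounded. -/
theorem isAdicComplete_of_extension (hf : Function.Injective f) (hg : Function.Surjective g)
    (hfg : ∀ x, g x = 0 → ∃ y, f y = x) (hgf : ∀ y, g (f y) = 0)
    [IsAdicComplete (Ideal.span {a}) M'] [IsAdicComplete (Ideal.span {a}) M'']
    {c : ℕ} (hc : ∀ k (x : M''), a ^ k • x = 0 → a ^ c • x = 0) : IsAdicComplete (Ideal.span {a}) M := by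
  have key : ∀ n (y : M') (z : M), f y = a ^ (n + c) • z → y ∈ Ideal.span {a} ^ n • (⊤ : Submodule A M') := by
    intro n y z h
    have h0 : a ^ (n + c) • g z = 0 := by rw [← map_smul, ← h, hgf]
    obtain ⟨t, ht⟩ := hfg (a ^ c • z) (by rw [map_smul]; exact hc _ _ h0)
    exact mem_pow_span_singleton.mpr ⟨t, hf (by rw [map_smul, ht, smul_smul, ← pow_add, h])⟩
  haveI : IsHausdorff (Ideal.span {a}) M := ⟨fun x hx => by
    have hx' : ∀ n, ∃ z, a ^ n • z = x := fun n => mem_pow_span_singleton.mp (SModEq.zero.mp (hx n))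
    have h0 : g x = 0 := IsHausdorff.haus ‹IsAdicComplete (Ideal.span {a}) M''›.toIsHausdorff _ fun n => by
      obtain ⟨z, rfl⟩ := hx' n
      exact SModEq.zero.mpr (mem_pow_span_singleton.mpr ⟨g z, (map_smul g _ z).symm⟩)
    obtain ⟨y, rfl⟩ := hfg x h0
    have : y = 0 := IsHausdorff.haus ‹IsAdicComplete (Ideal.span {a}) M'›.toIsHausdorff _ fun n => by
      obtain ⟨z, hz⟩ := hx' (n + c)
      exact SModEq.zero.mpr (key n y z hz.symm)
    rw [this, map_zero]⟩
  haveI : IsPrecomplete (Ideal.span {a}) M := ⟨fun x hx => by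
    have hd : ∀ {m n}, m ≤ n → ∃ z, a ^ m • z = x m - x n := fun h =>
      mem_pow_span_singleton.mp (SModEq.sub_mem.mp (hx h))
    obtain ⟨L'', hL''⟩ := IsPrecomplete.prec ‹IsAdicComplete (Ideal.span {a}) M''›.toIsPrecomplete
      (f := fun n => g (x n)) fun {m n} h => by
        obtain ⟨z, hz⟩ := hd h
        exact SModEq.sub_mem.mpr (mem_pow_span_singleton.mpr ⟨g z, by rw [← map_smul, hz, map_sub]⟩)
    obtain ⟨L, rfl⟩ := hg L''
    choose q hq using fun n => mem_pow_span_singleton.mp (SModEq.sub_mem.mp (hL'' n))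
    choose t ht using fun n => hg (q n)
    choose y hy using fun n => hfg (x n - L - a ^ n • t n) (by rw [map_sub, map_sub, map_smul, ht, hq, sub_self])
    obtain ⟨l, hl⟩ := IsPrecomplete.prec ‹IsAdicComplete (Ideal.span {a}) M'›.toIsPrecomplete
      (f := fun n => y (n + c)) fun {m n} h => by
        obtain ⟨z, hz⟩ := hd (Nat.add_le_add_right h c)
        refine SModEq.sub_mem.mpr (key m _ (z - t (m + c) + a ^ (n - m) • t (n + c)) ?_)
        rw [map_sub, hy, hy, smul_add, smul_sub, hz, smul_smul, ← pow_add, show m + c + (n - m) = n + c by omega]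
        abel
    refine ⟨L + f l, fun n => SModEq.sub_mem.mpr (mem_pow_span_singleton.mpr ?_)⟩
    obtain ⟨z, hz⟩ := hd (Nat.le_add_right n c)
    obtain ⟨w', hw'⟩ := mem_pow_span_singleton.mp (SModEq.sub_mem.mp (hl n))
    refine ⟨z + a ^ c • t (n + c) + f w', ?_⟩
    rw [smul_add, smul_add, hz, smul_smul, ← pow_add, ← map_smul f, hw', map_sub, hy]
    abel⟩
  exact {}

end Algebra

variable {Λ : Type (u + 1)} [CommRing Λ] {X : Scheme.{u}}

/-- Quotient maps modulo a principal ideal are cokernels of the multiplication. -/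
theorem nonempty_iso_of_isQuot {C : Type*} [Category* C] [Abelian C] [Linear Λ C] {b : Λ} {F Q Z : C}
    {p : F ⟶ Q} (hp : IsQuot (Ideal.span {b}) p) {π : F ⟶ Z} (w : (b • 𝟙 F) ≫ π = 0)
    (hπ : IsColimit (CokernelCofork.ofπ π w)) : Nonempty (Z ≅ Q) := by
  have h1 : HomKilledBy (Ideal.span {b}) π := fun d hd => by
    obtain ⟨e, rfl⟩ := Ideal.mem_span_singleton'.mp hd
    have : b • π = 0 := by rw [← w, Linear.smul_comp, Category.id_comp]
    rw [mul_smul, this, smul_zero]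
  have h2 : (b • 𝟙 F) ≫ p = 0 := by
    rw [Linear.smul_comp, Category.id_comp]
    exact ARLib.homKilledBy_of_target hp.1 p b (Ideal.mem_span_singleton_self b)
  haveI := ARLib.isQuot_epi hp
  let i := hπ.desc (CokernelCofork.ofπ p h2)
  have hi : π ≫ i = p := hπ.fac (CokernelCofork.ofπ p h2) WalkingParallelPair.one
  refine ⟨⟨i, ARLib.qdesc hp π h1, Cofork.IsColimit.hom_ext hπ ?_, ?_⟩⟩
  · show π ≫ i ≫ _ = π ≫ 𝟙 Z
    rw [← Category.assoc, hi, ARLib.qdesc_fac, Category.comp_id]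
  · rw [← cancel_epi p, ← Category.assoc, ARLib.qdesc_fac, hi, Category.comp_id]

variable [ProEtS.EpsCont X]

/-- Sections of a sheaf which is the limit of its quotients are complete. -/
theorem isAdicComplete_secP {I : Ideal Λ} (hI : I.FG) {F : EtModW.ModP Λ X} {Q : ℕᵒᵖ ⥤ EtModW.ModP Λ X}
    (p : (Functor.const ℕᵒᵖ).obj F ⟶ Q) (hQ : ∀ n : ℕ, IsQuot (I ^ (n + 1)) (p.app (op n)))
    (hl : IsIso (limit.lift Q (Cone.mk F p))) {U : X.ProEt} (hU : IsAWC U) :
    IsAdicComplete I ((secP (Λ := Λ) U).obj F) := by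
  let c : Cone Q := Cone.mk F p
  haveI : IsIso ((limit.isLimit Q).lift c) := hl
  let S := adicLimit hI (isAdic_of_quots p hQ) c (IsLimit.ofPointIso (limit.isLimit Q)) hU
  exact S.isAdicComplete_of_ker (S.ker_of_fg hI)

/-- Pullbacks of constructible étale sheaves. -/
def IsConstrP (F : EtModW.ModP Λ X) : Prop :=
  ∃ E : EtModW.Mod Λ X, EtModW.IsConstructible Λ E ∧ Nonempty ((EtModW.epsPullMod Λ X).obj E ≅ F)

lemma IsConstrP.of_iso {F F' : EtModW.ModP Λ X} (e : F ≅ F') (h : IsConstrP F) : IsConstrP F' := by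
  obtain ⟨E, hE, ⟨α⟩⟩ := h
  exact ⟨E, hE, ⟨α ≪≫ e⟩⟩

lemma IsConstrP.cokernel {F F' : EtModW.ModP Λ X} (φ : F ⟶ F') (hF : IsConstrP F) (hF' : IsConstrP F') :
    IsConstrP (cokernel φ) := by
  obtain ⟨E, hE, ⟨α⟩⟩ := hF
  obtain ⟨E', hE', ⟨β⟩⟩ := hF'
  let ψ : E ⟶ E' := (EtModW.epsPullMod Λ X).preimage (α.hom ≫ φ ≫ β.inv)
  refine ⟨_, Mod.isConstructible_cokernel ψ hE hE',
    ⟨PreservesCokernel.iso (EtModW.epsPullMod Λ X) ψ ≪≫ cokernel.mapIso _ φ α β ?_⟩⟩
  rw [Functor.map_preimage, Category.assoc, Category.assoc, Iso.inv_hom_id, Category.comp_id]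

lemma IsConstrP.extension [IsNoetherianRing Λ] {T : ShortComplex (EtModW.ModP Λ X)} (hT : T.ShortExact)
    (h₁ : IsConstrP T.X₁) (h₃ : IsConstrP T.X₃) : IsConstrP T.X₂ := by
  obtain ⟨A₁, hA₁, ⟨e₁⟩⟩ := h₁
  obtain ⟨A₃, hA₃, ⟨e₃⟩⟩ := h₃
  obtain ⟨S, hS, ⟨a₁⟩, ⟨a₃⟩, h₂⟩ := exists_iso_of_extension hT e₁ e₃
  exact ⟨S.X₂, Mod.isConstructible_extension hS (Mod.isConstructible_of_iso hA₁ a₁)
    (Mod.isConstructible_of_iso hA₃ a₃), h₂⟩

/-- An adic sheaf killed by a power of the ideal comes from a constructible étale sheaf. -/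
lemma IsConstrP.of_isAdicP {I : Ideal Λ} {K : EtModW.ModP Λ X} (h : IsAdicP I K) {n : ℕ}
    (hn : KilledBy (I ^ (n + 1)) K) : IsConstrP K := by
  obtain ⟨Q, p, hQ, hc, -⟩ := h
  haveI := ARLib.isQuot_epi (hQ n)
  let i : Q.obj (op n) ⟶ K := ARLib.qdesc (hQ n) (𝟙 K) (ARLib.homKilledBy_of_source hn _)
  have hi : p.app (op n) ≫ i = 𝟙 _ := ARLib.qdesc_fac _ _ _
  exact IsConstrP.of_iso ⟨i, p.app (op n),
    (cancel_epi (p.app (op n))).mp ((Category.assoc _ _ _).symm.trans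
      ((congrArg (fun t => t ≫ p.app (op n)) hi).trans ((Category.id_comp _).trans (Category.comp_id _).symm))),
    hi⟩ (hc n)

variable [IsNoetherianRing Λ] [IsNoetherian X] {a : Λ}

/-- The kernel of multiplication on an adic sheaf. -/
lemma isAdicP_kernel_smul {F : EtModW.ModP Λ X} (hF : IsAdicP (Ideal.span {a}) F) (b : Λ) :
    IsAdicP (Ideal.span {a}) (kernel (b • 𝟙 F)) :=
  (isAdicP_kernel_cokernel hF hF _).1

/-- The torsion of an adic sheaf is bounded. -/
theorem exists_bound {F : EtModW.ModP Λ X} (hF : IsAdicP (Ideal.span {a}) F) :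
    ∃ c, ∀ (k : ℕ) (U : X.ProEt) (x : (secP (Λ := Λ) U).obj F), a ^ k • x = 0 → a ^ c • x = 0 := by
  let Z : ℕ →o Subobject F := ⟨fun k => kernelSubobject (a ^ k • 𝟙 F), monotone_nat_of_le_succ fun k =>
    le_kernelSubobject _ (kernelSubobject (a ^ k • 𝟙 F)) (by
      rw [pow_succ', mul_smul, Linear.comp_smul, kernelSubobject_arrow_comp, smul_zero])⟩
  obtain ⟨c, hc⟩ := chain_stationary hF Z fun k =>
    isAdicP_of_iso (IsNoetherian.noetherian _) (kernelSubobjectIso _).symm (isAdicP_kernel_smul hF _)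
  refine ⟨c, fun k U x hx => ?_⟩
  rcases le_total k c with h | h
  · rw [← Nat.sub_add_cancel h, pow_add, mul_smul, hx, smul_zero]
  · have h0 : (kernelSubobject (a ^ k • 𝟙 F)).arrow ≫ (a ^ c • 𝟙 F) = 0 := by
      rw [show kernelSubobject (a ^ k • 𝟙 F) = kernelSubobject (a ^ c • 𝟙 F) from hc k h]
      exact kernelSubobject_arrow_comp _
    have h1 : kernel.ι (a ^ k • 𝟙 F) ≫ (a ^ c • 𝟙 F) = 0 := by
      rw [← kernelSubobject_arrow' (a ^ k • 𝟙 F), Category.assoc, h0, comp_zero]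
    let T := ShortComplex.mk (kernel.ι (a ^ k • 𝟙 F)) (a ^ k • 𝟙 F) (kernel.condition _)
    obtain ⟨y, rfl⟩ := (ShortComplex.moduleCat_exact_iff _).mp
      ((ShortComplex.exact_kernel (a ^ k • 𝟙 F)).map_of_mono_of_preservesKernel (secP U)
        (inferInstanceAs (Mono T.f)) inferInstance) x hx
    exact congrArg (fun t => ((secP U).map t).hom y) h1

/-- Multiplication on a short complex. -/
@[simps]
def mulSC (b : Λ) (S : ShortComplex (EtModW.ModP Λ X)) : S ⟶ S where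
  τ₁ := b • 𝟙 S.X₁
  τ₂ := b • 𝟙 S.X₂
  τ₃ := b • 𝟙 S.X₃
  comm₁₂ := by simp
  comm₂₃ := by simp

/-- The quotients of an extension are constructible. -/
theorem isConstrP_quot {S : ShortComplex (EtModW.ModP Λ X)} (hS : S.ShortExact) {n : ℕ}
    (h₃ : IsAdicP (Ideal.span {a}) S.X₃) {Q₁ Q₂ Q₃ : EtModW.ModP Λ X} {p₁ : S.X₁ ⟶ Q₁} {p₂ : S.X₂ ⟶ Q₂}
    {p₃ : S.X₃ ⟶ Q₃} (hp₁ : IsQuot (Ideal.span {a} ^ (n + 1)) p₁) (hp₂ : IsQuot (Ideal.span {a} ^ (n + 1)) p₂)
    (hp₃ : IsQuot (Ideal.span {a} ^ (n + 1)) p₃) (hc₁ : IsConstrP Q₁) (hc₃ : IsConstrP Q₃) : IsConstrP Q₂ := by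
  rw [Ideal.span_singleton_pow] at hp₁ hp₂ hp₃
  let v := mulSC (a ^ (n + 1)) S
  haveI := hS.epi_g
  haveI := hS.mono_f
  let Sn : ShortComplex.SnakeInput (EtModW.ModP Λ X) :=
    { L₀ := kernel v, L₁ := S, L₂ := S, L₃ := cokernel v
      v₀₁ := kernel.ι v, v₁₂ := v, v₂₃ := cokernel.π v
      w₀₂ := kernel.condition v, w₁₃ := cokernel.condition v
      h₀ := kernelIsKernel v, h₃ := cokernelIsCokernel v
      L₁_exact := hS.exact, epi_L₁_g := hS.epi_g, L₂_exact := hS.exact, mono_L₂_f := hS.mono_f }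
  obtain ⟨i₁⟩ := nonempty_iso_of_isQuot hp₁ _ Sn.h₃τ₁
  obtain ⟨i₂⟩ := nonempty_iso_of_isQuot hp₂ _ Sn.h₃τ₂
  obtain ⟨i₃⟩ := nonempty_iso_of_isQuot hp₃ _ Sn.h₃τ₃
  let k₃ : kernel ((a ^ (n + 1)) • 𝟙 S.X₃) ≅ Sn.L₀.X₃ :=
    (kernelIsKernel _).conePointUniqueUpToIso Sn.h₀τ₃
  have hK : IsConstrP Sn.L₀.X₃ := by
    refine IsConstrP.of_iso k₃ (IsConstrP.of_isAdicP (isAdicP_kernel_smul h₃ _) (n := n) ?_)
    intro d hd
    rw [Ideal.span_singleton_pow] at hd
    obtain ⟨e, rfl⟩ := Ideal.mem_span_singleton'.mp hd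
    rw [← cancel_mono (kernel.ι ((a ^ (n + 1)) • 𝟙 S.X₃)), zero_comp, Linear.smul_comp, Category.id_comp, mul_smul]
    have := kernel.condition ((a ^ (n + 1)) • 𝟙 S.X₃)
    rw [Linear.comp_smul, Category.comp_id] at this
    rw [this, smul_zero]
  let T : ShortComplex (EtModW.ModP Λ X) :=
    ShortComplex.mk (cokernel.desc Sn.δ Sn.L₃.f Sn.δ_L₃_f) Sn.L₃.g (by
      rw [← cancel_epi (cokernel.π Sn.δ), cokernel.π_desc_assoc, comp_zero, Sn.L₃.zero])
  haveI : Mono T.f := Sn.L₂'_exact.mono_cokernelDesc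
  haveI : Epi Sn.L₂.g := hS.epi_g
  haveI : Epi T.g := @ShortComplex.SnakeInput.epi_L₃_g _ _ _ Sn hS.epi_g
  have hT : T.ShortExact :=
    { exact := by
        let φ : Sn.L₃ ⟶ T := { τ₁ := cokernel.π Sn.δ, τ₂ := 𝟙 _, τ₃ := 𝟙 _, comm₁₂ := by simp [T], comm₂₃ := by simp [T] }
        haveI : Epi φ.τ₁ := inferInstanceAs (Epi (cokernel.π Sn.δ))
        haveI : IsIso φ.τ₂ := inferInstanceAs (IsIso (𝟙 _))
        haveI : Mono φ.τ₃ := inferInstanceAs (Mono (𝟙 _))
        exact (ShortComplex.exact_iff_of_epi_of_isIso_of_mono φ).mp Sn.L₃_exact }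
  exact IsConstrP.of_iso i₂ (IsConstrP.extension (T := T) hT
    (IsConstrP.cokernel Sn.δ hK (IsConstrP.of_iso i₁.symm hc₁)) (IsConstrP.of_iso i₃.symm hc₃))

/-- Adic sheaves are stable under extensions for a principal ideal. -/
theorem isAdicP_extension {S : ShortComplex (EtModW.ModP Λ X)} (hS : S.ShortExact)
    (h₁ : IsAdicP (Ideal.span {a}) S.X₁) (h₃ : IsAdicP (Ideal.span {a}) S.X₃) :
    IsAdicP (Ideal.span {a}) S.X₂ := by
  have hI : (Ideal.span {a}).FG := IsNoetherian.noetherian _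
  obtain ⟨c, hc⟩ := exists_bound h₃
  obtain ⟨Q₁, p₁, hQ₁, hc₁, hl₁⟩ := h₁
  obtain ⟨Q₃, p₃, hQ₃, hc₃, hl₃⟩ := id h₃
  choose Q q hq using fun n => ARLib.exists_isQuot (I := Ideal.span {a} ^ (n + 1)) (Or.inl hI.pow) S.X₂
  let t : ∀ {n m : ℕ}, n ≤ m → (Q m ⟶ Q n) := fun {n m} h => ARLib.qdesc (hq m) (q n)
    (ARLib.homKilledBy_of_target (ARLib.KilledBy.anti (Ideal.pow_le_pow_right (by omega)) (hq n).1) _)
  have ht : ∀ {n m : ℕ} (h : n ≤ m), q m ≫ t h = q n := fun h => ARLib.qdesc_fac _ _ _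
  haveI : ∀ n, Epi (q n) := fun n => ARLib.isQuot_epi (hq n)
  let R : PS (EtModW.ModP Λ X) := ARLib.mkPS Q t
    (fun n => by rw [← cancel_epi (q n), ht (le_refl n), Category.comp_id])
    fun {n m l} h h' => by rw [← cancel_epi (q l), ← Category.assoc, ht h', ht h, ht (h.trans h')]
  let p : (Functor.const ℕᵒᵖ).obj S.X₂ ⟶ R :=
    { app := fun b => q b.unop
      naturality := fun b b' k => (Category.id_comp _).trans (ht (leOfHom k.unop)).symm }
  refine ⟨R, p, hq, fun n => isConstrP_quot hS h₃ (hQ₁ n) (hq n) (hQ₃ n) (hc₁ n) (hc₃ n), ?_⟩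
  haveI := hS.mono_f
  haveI := hS.epi_g
  refine isIso_of_awc _ fun U hU => ?_
  haveI := isAdicComplete_secP hI p₁ hQ₁ hl₁ hU
  haveI := isAdicComplete_secP hI p₃ hQ₃ hl₃ hU
  haveI : Mono ((secP U).map S.f) := (secP U).map_mono _
  haveI : IsAdicComplete (Ideal.span {a}) ((secP (Λ := Λ) U).obj S.X₂) :=
    isAdicComplete_of_extension ((secP U).map S.f).hom ((secP U).map S.g).hom
      ((ModuleCat.mono_iff_injective _).mp inferInstance) (surjective_of_epi S.g hU)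
      (fun x hx => exists_preimage hS x hx)
      (fun y => congrArg (fun k => ((secP U).map k).hom y) S.zero) (c := c) fun k x hx => hc k U x hx
  let s : ∀ {A B : EtModW.ModP Λ X}, (A ⟶ B) → ((secP U).obj A →ₗ[Λ] (secP U).obj B) :=
    fun k => ((secP U).map k).hom
  have hπ : ∀ n x, s (limit.π R (op n)) (s (limit.lift R (Cone.mk S.X₂ p)) x) = s (q n) x := fun n x =>
    congrArg (fun k => s k x) (limit.lift_π (Cone.mk S.X₂ p) (op n))
  have hk : ∀ n, LinearMap.ker (s (q n)) = Ideal.span {a} ^ (n + 1) • ⊤ := fun n => ker_secP_isQuot hI.pow (hq n) hU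
  constructor
  · refine (injective_iff_map_eq_zero (s (limit.lift R (Cone.mk S.X₂ p)))).mpr fun x hx => ?_
    refine IsHausdorff.haus (I := Ideal.span {a}) inferInstance x fun n => SModEq.zero.mpr ?_
    have : x ∈ LinearMap.ker (s (q n)) := LinearMap.mem_ker.mpr (by rw [← hπ, hx, map_zero])
    exact Submodule.smul_mono_left (Ideal.pow_le_pow_right n.le_succ) (hk n ▸ this)
  · intro y
    choose x hx using fun n => surjective_of_epi (q n) hU (s (limit.π R (op n)) y)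
    change ∀ n, s (q n) (x n) = s (limit.π R (op n)) y at hx
    have hcomp : ∀ {n m : ℕ}, n ≤ m → s (q n) (x m) = s (q n) (x n) := fun {n m} h => by
      rw [hx, ← ht h]
      exact (congrArg (s (t h)) (hx m)).trans (congrArg (fun k => s k y) (limit.w R (homOfLE h).op))
    obtain ⟨L, hL⟩ := IsPrecomplete.prec (I := Ideal.span {a}) inferInstance (f := x) fun {m n} h => by
      refine SModEq.sub_mem.mpr (Submodule.smul_mono_left (Ideal.pow_le_pow_right m.le_succ) ?_)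
      rw [← hk m, LinearMap.mem_ker, map_sub, hcomp h, sub_self]
    refine ⟨L, Concrete.isLimit_ext _ (isLimitOfPreserves (secP U) (limit.isLimit R)) _ _ fun ⟨n⟩ => ?_⟩
    refine (hπ n L).trans ?_
    rw [← sub_eq_zero]
    have h1 := SModEq.sub_mem.mp (hL (n + 1))
    rw [← hk n, LinearMap.mem_ker, map_sub, hcomp n.le_succ, hx] at h1
    exact (neg_eq_zero.mp ((neg_sub _ _).trans h1))

end Groth.Agent.Et18.ModEps
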