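import Groth.Agent.Et18.ModEps.AdicAbelian
import Groth.Agent.Et18.Mod.AdicStrata

/-!
# `ε⁻¹` commutes with inverse images
-/

universe u

open CategoryTheory CategoryTheory.Limits AlgebraicGeometry Opposite ARSys

set_option backward.isDefEq.respectTransparency.types false
set_option backward.isDefEq.respectTransparency false
set_option synthInstance.maxHeartbeats 400000
set_option maxHeartbeats 1000000

namespace Groth.Agent.Et18.ModEps

variable {Λ : Type (u + 1)} [CommRing Λ] {T X : Scheme.{u}} (g : T ⟶ X)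

/-- Base change of sites commutes with the inclusion of étale into pro-étale. -/
noncomputable def epsBcIso : ProEtS.eps X ⋙ ProEtS.bcP g ≅ EtCoh.bc g ⋙ ProEtS.eps T :=
  NatIso.ofComponents (fun V => MorphismProperty.Over.isoMk (Iso.refl _) (Category.id_comp _)) fun {V W} f => by
    refine (Scheme.ProEt.forget T ⋙ CategoryTheory.Over.forget T).map_injective ?_
    refine (Category.comp_id _).trans (Eq.trans ?_ (Category.id_comp _).symm)
    rfl

variable [ProEtS.EpsCont X] [ProEtS.EpsCont T] [ProEtS.PCont g]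

/-- Direct image of pro-étale sheaves of modules. -/
noncomputable abbrev pushPMod : EtModW.ModP Λ T ⥤ EtModW.ModP Λ X :=
  (ProEtS.bcP g).sheafPushforwardContinuous (ModuleCat.{u + 1} Λ) (Scheme.ProEt.topology X) (Scheme.ProEt.topology T)

/-- Inverse image of pro-étale sheaves of modules. -/
noncomputable abbrev pullPMod : EtModW.ModP Λ X ⥤ EtModW.ModP Λ T :=
  (ProEtS.bcP g).sheafPullback (ModuleCat.{u + 1} Λ) (Scheme.ProEt.topology X) (Scheme.ProEt.topology T)

/-- The adjunction of inverse and direct image. -/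
noncomputable abbrev pullPModAdj : pullPMod (Λ := Λ) g ⊣ pushPMod g :=
  (ProEtS.bcP g).sheafAdjunctionContinuous (ModuleCat.{u + 1} Λ) (Scheme.ProEt.topology X) (Scheme.ProEt.topology T)

/-- Direct images commute with `ε_*`. -/
noncomputable def pushModComm : pushMod (Λ := Λ) (X := T) ⋙ EtModW.push Λ g ≅ pushPMod g ⋙ pushMod :=
  NatIso.ofComponents (fun F => (fullyFaithfulSheafToPresheaf _ _).preimageIso
      (Functor.isoWhiskerRight (NatIso.op (epsBcIso g)) F.obj)) fun {F F'} φ => by
    refine (sheafToPresheaf _ _).map_injective ?_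
    ext V : 2
    simp

/-- `ε⁻¹` commutes with inverse image. -/
noncomputable def pullEpsIso :
    EtModW.pull Λ g ⋙ EtModW.epsPullMod Λ T ≅ EtModW.epsPullMod Λ X ⋙ pullPMod g :=
  let a₁ := ((EtCoh.bc g).sheafAdjunctionContinuous (ModuleCat.{u + 1} Λ) X.smallEtaleTopology
    T.smallEtaleTopology).comp (epsAdjMod (X := T) Λ)
  let a₂ := (epsAdjMod (X := X) Λ).comp (pullPModAdj (Λ := Λ) g)
  (a₁.ofNatIsoRight (pushModComm g)).leftAdjointUniq a₂

end Groth.Agent.Et18.ModEps
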