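import Groth.Prelude.Def_EtModW
import Groth.Prelude.Def_EtModD2
import Groth.Agent.EtCmp.Cont
import Groth.Agent.EtCmp.Exact
import Groth.Agent.Et18.PointComap
import Groth.Agent.Et18.ProEtPoints
import Mathlib.CategoryTheory.Sites.Point.Conservative

/-!
# `ε⁻¹` of sheaves of modules and underlying abelian sheaves
-/

universe u

open CategoryTheory CategoryTheory.Limits AlgebraicGeometry Opposite

set_option backward.isDefEq.respectTransparency.types false
set_option backward.isDefEq.respectTransparency false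
set_option synthInstance.maxHeartbeats 400000
set_option maxHeartbeats 1000000

namespace Groth.Agent.Et18.ModEps

variable {X : Scheme.{u}}

section Germ

variable [ProEtS.EpsCont X] (Φ : GrothendieckTopology.Point.{u + 1} (Scheme.ProEt.topology X))

instance initiallySmall_elements (Φ : GrothendieckTopology.Point.{u + 1} (Scheme.ProEt.topology X)) :
    InitiallySmall.{u + 1} (ProEtS.eps X ⋙ Φ.fiber).Elements :=
  haveI : EssentiallySmall.{u + 1} (ProEtS.eps X ⋙ Φ.fiber).Elements := essentiallySmallSelf.{u + 1} _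
  initiallySmall_of_essentiallySmall _

/-- The point of the étale site under a point of the pro-étale site. -/
noncomputable abbrev comapPt : GrothendieckTopology.Point.{u + 1} X.smallEtaleTopology :=
  Φ.comap (ProEtS.eps X) (EtCmp.coverPreserving_eps X)

variable (A : Type (u + 2)) [Category.{u + 1} A] [HasProducts.{u + 1} A] [HasColimitsOfSize.{u + 1, u + 1} A]
  [((ProEtS.eps X).sheafPushforwardContinuous A X.smallEtaleTopology (Scheme.ProEt.topology X)).IsRightAdjoint]

/-- The germ of a pulled back section. -/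
theorem germ_comap (G : Sheaf X.smallEtaleTopology A) (V : X.Etale) (x : Φ.fiber.obj ((ProEtS.eps X).obj V)) :
    (comapPt Φ).toPresheafFiber V x G.obj ≫
        (Φ.sheafFiberComapIso (ProEtS.eps X) (EtCmp.coverPreserving_eps X) A).hom.app G =
      (((ProEtS.eps X).sheafAdjunctionContinuous A X.smallEtaleTopology
          (Scheme.ProEt.topology X)).unit.app G).hom.app (op V) ≫
        Φ.toPresheafFiber ((ProEtS.eps X).obj V) x
          (((ProEtS.eps X).sheafPullback A X.smallEtaleTopology (Scheme.ProEt.topology X)).obj G).obj := by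
  let adj := (ProEtS.eps X).sheafAdjunctionContinuous A X.smallEtaleTopology (Scheme.ProEt.topology X)
  let c := Φ.sheafFiberComapIso (ProEtS.eps X) (EtCmp.coverPreserving_eps X) A
  let P := ((ProEtS.eps X).sheafPullback A X.smallEtaleTopology (Scheme.ProEt.topology X))
  let η := adj.unit.app G
  have h1 : (comapPt Φ).sheafFiber.map η ≫
      Et18.pushFiberMap Φ (ProEtS.eps X) (EtCmp.coverPreserving_eps X) A (P.obj G) = c.hom.app G := by
    rw [Et18.pushFiberMap]
    refine (Category.assoc _ _ _).symm.trans ?_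
    refine (congrArg (· ≫ _) (c.hom.naturality η)).trans ?_
    refine (Category.assoc _ _ _).trans ?_
    refine (congrArg (c.hom.app G ≫ ·) ((Functor.map_comp Φ.sheafFiber _ _).symm.trans
      (congrArg Φ.sheafFiber.map (adj.left_triangle_components G)))).trans ?_
    rw [CategoryTheory.Functor.map_id]
    exact Category.comp_id _
  rw [← h1, ← Et18.toPresheafFiber_pushFiberMap Φ (ProEtS.eps X) (EtCmp.coverPreserving_eps X) A (P.obj G) V x]
  refine (Category.assoc _ _ _).symm.trans ?_
  refine (congrArg (· ≫ _) ((comapPt Φ).toPresheafFiber_naturality η.hom V x)).trans ?_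
  exact Category.assoc _ _ _

end Germ

variable [ProEtS.EpsCont X] (Λ : Type (u + 1)) [CommRing Λ]

/-- The underlying pro-étale sheaf of abelian groups. -/
noncomputable abbrev forgetP : EtModW.ModP Λ X ⥤ ProEtS.AbP X :=
  sheafCompose (Scheme.ProEt.topology X) (forget₂ (ModuleCat.{u + 1} Λ) AddCommGrpCat.{u + 1})

/-- The adjunction for sheaves of modules. -/
noncomputable abbrev epsAdjMod : EtModW.epsPullMod Λ X ⊣
    (ProEtS.eps X).sheafPushforwardContinuous (ModuleCat.{u + 1} Λ) X.smallEtaleTopology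
      (Scheme.ProEt.topology X) :=
  (ProEtS.eps X).sheafAdjunctionContinuous (ModuleCat.{u + 1} Λ) X.smallEtaleTopology (Scheme.ProEt.topology X)

/-- Comparison of the two inverse images. -/
noncomputable def pullForget :
    EtModD.forgetToAb Λ X ⋙ ProEtS.epsPull X ⟶ EtModW.epsPullMod Λ X ⋙ forgetP Λ where
  app E := ((ProEtS.epsAdj X).homEquiv _ _).symm ((EtModD.forgetToAb Λ X).map ((epsAdjMod Λ).unit.app E))
  naturality E E' a := by
    apply ((ProEtS.epsAdj X).homEquiv _ _).injective
    rw [Functor.comp_map, Adjunction.homEquiv_naturality_left, Equiv.apply_symm_apply,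
      Adjunction.homEquiv_naturality_right, Equiv.apply_symm_apply, Functor.comp_map]
    refine (Functor.map_comp (EtModD.forgetToAb Λ X) a _).symm.trans ?_
    refine (congrArg (EtModD.forgetToAb Λ X).map ((epsAdjMod Λ).unit.naturality a)).trans ?_
    exact Functor.map_comp (EtModD.forgetToAb Λ X) _ _

variable {Λ}

lemma unit_pullForget (E : EtModW.Mod Λ X) :
    (ProEtS.epsAdj X).unit.app ((EtModD.forgetToAb Λ X).obj E) ≫
        (ProEtS.epsPush X).map ((pullForget Λ).app E) =
      (EtModD.forgetToAb Λ X).map ((epsAdjMod Λ).unit.app E) := by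
  exact ((ProEtS.epsAdj X).homEquiv_unit _ _ _).symm.trans
    (((ProEtS.epsAdj X).homEquiv _ _).apply_symm_apply _)

theorem bijective_fiber (E : EtModW.Mod Λ X) (Φ : GrothendieckTopology.Point.{u + 1} (Scheme.ProEt.topology X)) :
    Function.Bijective (Φ.sheafFiber.map ((pullForget Λ).app E)) := by
  let Ψ := comapPt Φ
  let G := (EtModD.forgetToAb Λ X).obj E
  let cA := Φ.sheafFiberComapIso (ProEtS.eps X) (EtCmp.coverPreserving_eps X) AddCommGrpCat.{u + 1}
  let cM := Φ.sheafFiberComapIso (ProEtS.eps X) (EtCmp.coverPreserving_eps X) (ModuleCat.{u + 1} Λ)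
  let PM := (EtModW.epsPullMod Λ X).obj E
  let ηM := ((epsAdjMod Λ).unit.app E).hom
  have hsA : Function.Bijective (cA.hom.app G) := ConcreteCategory.bijective_of_isIso _
  have hsM : Function.Bijective (cM.hom.app E) := ConcreteCategory.bijective_of_isIso _
  have hA : ∀ (V : X.Etale) (x : Φ.fiber.obj ((ProEtS.eps X).obj V)) (s : G.obj.obj (op V)),
      Φ.sheafFiber.map ((pullForget Λ).app E) (cA.hom.app G (Ψ.toPresheafFiber V x G.obj s)) =
        Φ.toPresheafFiber ((ProEtS.eps X).obj V) x ((forgetP Λ).obj PM).obj (ηM.app (op V) s) := by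
    intro V x s
    refine (congrArg (Φ.sheafFiber.map ((pullForget Λ).app E))
      (congrArg (fun k => k s) (germ_comap Φ AddCommGrpCat.{u + 1} G V x))).trans ?_
    refine (Φ.toPresheafFiber_naturality_apply ((pullForget Λ).app E).hom _ x _).trans ?_
    refine congrArg (Φ.toPresheafFiber ((ProEtS.eps X).obj V) x ((forgetP Λ).obj PM).obj) ?_
    exact congrArg (fun k => k.hom.app (op V) s) (unit_pullForget E)
  have hM : ∀ (V : X.Etale) (x : Φ.fiber.obj ((ProEtS.eps X).obj V)) (s : E.obj.obj (op V)),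
      cM.hom.app E (Ψ.toPresheafFiber V x E.obj s) =
        Φ.toPresheafFiber ((ProEtS.eps X).obj V) x PM.obj (ηM.app (op V) s) := fun V x s =>
    congrArg (fun k => k s) (germ_comap Φ (ModuleCat.{u + 1} Λ) E V x)
  constructor
  · intro p q hpq
    obtain ⟨p, rfl⟩ := hsA.2 p
    obtain ⟨q, rfl⟩ := hsA.2 q
    obtain ⟨V, x, s, t, rfl, rfl⟩ := Ψ.toPresheafFiber_jointly_surjective₂ (P := G.obj) p q
    congr 1
    replace hpq := (hA V x s).symm.trans (hpq.trans (hA V x t))
    obtain ⟨W, g, w, hw, hst⟩ := (Φ.toPresheafFiber_eq_iff' (P := ((forgetP Λ).obj PM).obj) _ _ _ _).mp hpq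
    have h1 : Φ.toPresheafFiber ((ProEtS.eps X).obj V) x PM.obj (ηM.app (op V) s) =
        Φ.toPresheafFiber ((ProEtS.eps X).obj V) x PM.obj (ηM.app (op V) t) :=
      (Φ.toPresheafFiber_eq_iff' (P := PM.obj) _ _ _ _).mpr ⟨W, g, w, hw, hst⟩
    rw [← hM, ← hM] at h1
    obtain ⟨V', a, x', hx', hst'⟩ := (Ψ.toPresheafFiber_eq_iff' (P := E.obj) _ _ _ _).mp (hsM.1 h1)
    exact (Ψ.toPresheafFiber_eq_iff' (P := G.obj) _ _ _ _).mpr ⟨V', a, x', hx', hst'⟩
  · intro p
    obtain ⟨W, w, z, rfl⟩ := Φ.toPresheafFiber_jointly_surjective (P := ((forgetP Λ).obj PM).obj) p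
    obtain ⟨a, ha⟩ := hsM.2 (Φ.toPresheafFiber W w PM.obj z)
    obtain ⟨V, x, s, rfl⟩ := Ψ.toPresheafFiber_jointly_surjective (P := E.obj) a
    refine ⟨cA.hom.app G (Ψ.toPresheafFiber V x G.obj s), (hA V x s).trans ?_⟩
    rw [hM] at ha
    let e₁ : Φ.fiber.Elements := ⟨(ProEtS.eps X).obj V, x⟩
    let e₂ : Φ.fiber.Elements := ⟨W, w⟩
    let m := IsCofiltered.min e₁ e₂
    let g₁ := (IsCofiltered.minToLeft e₁ e₂).1
    let g₂ := (IsCofiltered.minToRight e₁ e₂).1
    have hg₁ : Φ.fiber.map g₁ m.2 = x := (IsCofiltered.minToLeft e₁ e₂).2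
    have hg₂ : Φ.fiber.map g₂ m.2 = w := (IsCofiltered.minToRight e₁ e₂).2
    rw [← hg₁, ← hg₂, ← Φ.toPresheafFiber_w_apply g₁ m.2 PM.obj, ← Φ.toPresheafFiber_w_apply g₂ m.2 PM.obj] at ha
    obtain ⟨Z, f, z₀, hz, he⟩ := (Φ.toPresheafFiber_eq_iff' (P := PM.obj) _ _ _ _).mp ha
    rw [← hg₁, ← hg₂, ← Φ.toPresheafFiber_w_apply g₁ m.2 ((forgetP Λ).obj PM).obj,
      ← Φ.toPresheafFiber_w_apply g₂ m.2 ((forgetP Λ).obj PM).obj]
    exact (Φ.toPresheafFiber_eq_iff' (P := ((forgetP Λ).obj PM).obj) _ _ _ _).mpr ⟨Z, f, z₀, hz, he⟩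

/-- The underlying abelian sheaf of `ε⁻¹E` is `ε⁻¹` of that of `E`. -/
instance isIso_pullForget : IsIso (pullForget (X := X) Λ) := by
  haveI := Et18.hasEnoughPoints_proEt X
  obtain ⟨P, hP, hc⟩ := GrothendieckTopology.HasEnoughPoints.exists_objectProperty
    (J := Scheme.ProEt.topology X)
  haveI : ∀ E, IsIso ((pullForget Λ).app E) := fun E => by
    refine ((hc.jointlyReflectIsomorphisms AddCommGrpCat.{u + 1}).isIso_iff _).mpr fun Φ => ?_
    exact (ConcreteCategory.isIso_iff_bijective _).mpr (bijective_fiber E Φ.obj)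
  exact NatIso.isIso_of_isIso_app _

end Groth.Agent.Et18.ModEps
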